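import Cfsg.Agent.J4Classes.Defs
import Mathlib.GroupTheory.ClassEquation
import Mathlib.GroupTheory.GroupAction.Quotient
import Mathlib.Tactic

/-!
# The families fill the group
-/

set_option autoImplicit false
set_option maxRecDepth 100000

open Subgroup

namespace Cfsg.Agent.J4Classes

variable {G : Type*} [Group G]

/-- The order of `J₄`. -/
def ord : ℕ := 86775571046077562880

/-- The slots: the identity and one for each bound of a row. -/
abbrev Slot : Type := Option (Σ r : Fin rows.length, Fin (rows.get r).2.2.length)

/-- The bound of a slot. -/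
def bound : Slot → ℕ
  | none => ord
  | some s => (rows.get s.1).2.2.get s.2

theorem slots_ok : Fintype.card Slot = 62 ∧ (∑ s : Slot, ord / bound s) = ord ∧
    (∀ s : Slot, 0 < bound s ∧ bound s ∣ ord) ∧
    (∀ r : Fin rows.length, 1 < (rows.get r).1 ∧ (¬ Even (rows.get r).1 → (rows.get r).2.1 = false)) ∧
    (∀ r r' : Fin rows.length, (rows.get r).1 = (rows.get r').1 → (rows.get r).2.1 = (rows.get r').2.1 →
      r = r') := by
  decide +kernel

/-- A class is no smaller than the index of a bound on the centraliser. -/
theorem le_card_carrier [Finite G] {x : G} {c : ℕ}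
    (h : Nat.card (centralizer ({x} : Set G)) ≤ c) :
    Nat.card G / c ≤ Nat.card (ConjClasses.mk x).carrier := by
  have h1 : Nat.card (ConjClasses.mk x).carrier = (centralizer ({x} : Set G)).index := by
    rw [← ConjAct.orbit_eq_carrier_conjClasses, Nat.card_coe_set_eq, ← MulAction.index_stabilizer,
      ConjAct.stabilizer_eq_centralizer]
    rfl
  have h2 := (centralizer ({x} : Set G)).card_mul_index
  rw [h1, ← h2]
  exact Nat.div_le_of_le_mul (Nat.mul_le_mul_right _ h)

/-- Classes filling the group are all the classes. -/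
theorem card_classes_of [Finite G] {ι : Type*} [Fintype ι] (x : ι → G) (c : ι → ℕ)
    (hc : ∀ i, Nat.card (centralizer ({x i} : Set G)) ≤ c i) (hpos : ∀ i, 0 < c i ∧ c i ∣ Nat.card G)
    (hne : ∀ i j, i ≠ j → ¬ IsConj (x i) (x j))
    (hsum : ∑ i, Nat.card G / c i = Nat.card G) : Nat.card (ConjClasses G) = Fintype.card ι := by
  classical
  have := Fintype.ofFinite G
  set f : ι → ConjClasses G := fun i => ConjClasses.mk (x i) with hf
  have hinj : Function.Injective f := fun i j e => by
    by_contra h
    exact hne i j h (ConjClasses.mk_eq_mk_iff_isConj.1 e)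
  have htot : ∑ K : ConjClasses G, Nat.card K.carrier = Nat.card G := by
    rw [Nat.card_eq_fintype_card (α := G), ← sum_conjClasses_card_eq_card G]
    refine Finset.sum_congr rfl fun K _ => ?_
    rw [Nat.card_eq_fintype_card, Set.toFinset_card]
  have hle : Nat.card G ≤ ∑ K ∈ Finset.univ.image f, Nat.card K.carrier := by
    rw [Finset.sum_image fun a _ b _ e => hinj e]
    calc Nat.card G = ∑ i, Nat.card G / c i := hsum.symm
      _ ≤ _ := Finset.sum_le_sum fun i _ => le_card_carrier (hc i)
  have hall : ∀ K : ConjClasses G, K ∈ Finset.univ.image f := fun K => by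
    by_contra hK
    have hpos' : 0 < Nat.card K.carrier := by
      obtain ⟨a, rfl⟩ := ConjClasses.exists_rep K
      exact Nat.card_pos_iff.2 ⟨⟨⟨a, ConjClasses.mem_carrier_mk⟩⟩, inferInstance⟩
    have hlt := Finset.sum_lt_sum_of_subset (f := fun K : ConjClasses G => Nat.card K.carrier)
      (Finset.subset_univ (Finset.univ.image f)) (Finset.mem_univ K) hK hpos' fun _ _ _ => Nat.zero_le _
    omega
  rw [Nat.card_eq_fintype_card]
  exact (Fintype.card_of_bijective ⟨hinj, fun K => by simpa using hall K⟩).symm

/-- The number of classes from the families. -/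
theorem card_classes [Finite G] {z : G} (hcard : Nat.card G = ord) (h : Fams z rows) :
    Nat.card (ConjClasses G) = 62 := by
  classical
  obtain ⟨h62, hsum, hb, hrow, hkey⟩ := slots_ok
  choose x hx hne using fun r : Fin rows.length => h (rows.get r) (List.get_mem rows r)
  let y : Slot → G := fun s => match s with
    | none => 1
    | some s => x s.1 s.2
  rw [← h62]
  refine card_classes_of y bound ?_ (fun s => hcard ▸ hb s) ?_ (by rw [hcard]; exact hsum)
  · rintro (_ | ⟨r, i⟩)
    · exact le_trans (card_le_card_group _) hcard.le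
    · exact (hx r i).2.1
  · have h1 : ∀ r i, x r i ≠ 1 := fun r i e => by
      have := (hx r i).1
      rw [e, orderOf_one] at this
      have := (hrow r).1
      omega
    rintro (_ | ⟨r, i⟩) (_ | ⟨r', i'⟩) hs hc
    · exact hs rfl
    · exact h1 r' i' (isConj_one_right.1 hc)
    · exact h1 r i (isConj_one_left.1 hc)
    · obtain ⟨g, hg⟩ := isConj_iff.1 hc
      change g * x r i * g⁻¹ = x r' i' at hg
      have ho : (rows.get r).1 = (rows.get r').1 := by
        rw [← (hx r i).1, ← (hx r' i').1, ← hg]
        exact ((MulAut.conj g).orderOf_eq (x r i)).symm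
      have hk : (rows.get r).2.1 = (rows.get r').2.1 := by
        by_cases he : Even (rows.get r).1
        · have hp : IsConj (x r i ^ ((rows.get r).1 / 2)) (x r' i' ^ ((rows.get r').1 / 2)) :=
            isConj_iff.2 ⟨g, by rw [← ho, ← hg, conj_pow]⟩
          refine Bool.eq_iff_iff.2 ?_
          rw [← (hx r i).2.2 he, ← (hx r' i').2.2 (ho ▸ he)]
          exact ⟨fun h => h.trans hp, fun h => h.trans hp.symm⟩
        · rw [(hrow r).2 he, (hrow r').2 (ho ▸ he)]
      obtain rfl := hkey r r' ho hk
      exact hne r i i' (fun e => hs (by rw [e])) hc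

end Cfsg.Agent.J4Classes
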