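import Mathlib.GroupTheory.GroupAction.ConjAct
import Mathlib.GroupTheory.OrderOfElement

/-!
# Families of conjugacy classes with bounded centralisers

A family holds classes of elements of one order and, for an even order, of one kind: whether the
involution among the powers is conjugate to `z`.
-/

set_option autoImplicit false

open Subgroup

namespace Cfsg.Agent.J4Classes

variable {G : Type*} [Group G]

/-- Pairwise non-conjugate elements of order `n`, of kind `kz` when `n` is even, with centralisers of the
listed orders at most. -/
def Fam (z : G) (n : ℕ) (kz : Bool) (cs : List ℕ) : Prop :=
  ∃ x : Fin cs.length → G,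
    (∀ i, orderOf (x i) = n ∧ Nat.card (centralizer ({x i} : Set G)) ≤ cs.get i ∧
      (Even n → (IsConj z (x i ^ (n / 2)) ↔ kz = true))) ∧
    ∀ i j, i ≠ j → ¬ IsConj (x i) (x j)

/-- A row: the order, the kind and the bounds. -/
abbrev Row := ℕ × Bool × List ℕ

/-- The rows of the part of the elements of order seven and of the self-centralising primes. -/
def rowsA : List Row :=
  [(7, false, [840, 840]), (14, true, [84, 84]), (14, false, [56, 56]), (21, false, [42, 42]),
    (28, false, [28, 28]), (35, false, [35, 35]), (42, true, [42, 42]), (23, false, [23]),
    (29, false, [29]), (31, false, [31, 31, 31]), (37, false, [37, 37, 37]), (43, false, [43, 43, 43])]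

/-- The rows of the remaining elements with a part of order three, five or eleven outside the involution
centraliser, and of the second kind. -/
def rowsB : List Row :=
  [(2, false, [1816657920]), (3, false, [2661120]), (4, false, [43008]), (5, false, [6720]),
    (11, false, [31944, 242]), (22, true, [264]), (22, false, [22]), (33, false, [66, 66]),
    (44, true, [44]), (66, true, [66, 66])]

/-- The rows computed in the centraliser of `z`. -/
def rowsC : List Row :=
  [(2, true, [21799895040]), (4, true, [5406720, 98304]), (6, true, [2661120, 2304]),
    (6, false, [2304]), (8, true, [1280, 512, 768]), (10, true, [960]), (10, false, [80]),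
    (12, true, [192, 192]), (12, false, [48]), (15, false, [30]), (16, true, [32]),
    (20, true, [160, 160]), (24, true, [48, 48]), (30, true, [30]), (40, true, [40, 40])]

/-- All rows of nontrivial classes. -/
def rows : List Row := rowsA ++ rowsB ++ rowsC

/-- All the families of a list of rows. -/
def Fams (z : G) (l : List Row) : Prop := ∀ r ∈ l, Fam z r.1 r.2.1 r.2.2

end Cfsg.Agent.J4Classes
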